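import Cfsg.Agent.H955.QMinus
import Cfsg.Agent.H884.ElNum
import Cfsg.Agent.S0288
import Cfsg.Agent.S0300
import Cfsg.Agent.S0249
import Cfsg.Agent.H648.DG.Psl2Inv
import Cfsg.Agent.H436.TTPsl2

/-!
# S3691, row `Ω_7(q)`, box B4: large subgroups of `O_4^-(q)` contain `Ω_4^-(q)` (helper179)
-/

set_option autoImplicit false

namespace Cfsg.Agent.H179.Om

open Module QuadraticMap Cfsg Cfsg.Agent.LieClassical.OrthCore Cfsg.Agent.LieClassical.OrthTrans
  Cfsg.Agent.H884.El Cfsg.Agent.H955
open Cfsg.Agent.LieClassical.OrthFinite (isometryEquiv)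
open scoped MatrixGroups Matrix commutatorElement

/-! ### abstract part -/

section abs

/-- abstract form: a subgroup of `G` with a large image in the quotient of `R = [G, G]` -/
theorem mem_of_large {G S : Type*} [Group G] [Finite G] [Group S] {R : Subgroup G} [R.Normal]
    (eS : R ⧸ Subgroup.center R ≃* S) (hcard : Nat.card G = 4 * Nat.card S) (hperf : commutator S = ⊤)
    {p r m : ℕ} (hp : p.Prime) (hp2 : p ≠ 2) (hr : r.Prime) (hr2 : r ≠ 2)
    (hS : ∀ H : Subgroup S, p ^ m ∣ Nat.card H → r ∣ Nat.card H → H = ⊤) {Γ : Subgroup G}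
    (h1 : p ^ m ∣ Nat.card Γ) (h2 : r ∣ Nat.card Γ) {x : G} (hx : x ^ p = 1) : x ∈ Γ := by
  classical
  have hfS : Finite S := Finite.of_equiv _ eS.toEquiv
  have hSpos : 0 < Nat.card S := Nat.card_pos
  -- orders
  have c1 : Nat.card (Subgroup.center R) * Nat.card S = Nat.card R := by
    rw [← Nat.card_congr eS.toEquiv, mul_comm]
    exact (Subgroup.card_eq_card_quotient_mul_card_subgroup _).symm
  have c2 : R.index * Nat.card (Subgroup.center R) = 4 := by
    have h3 := R.index_mul_card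
    rw [← c1, hcard, ← mul_assoc] at h3
    exact Nat.eq_of_mul_eq_mul_right hSpos h3
  -- the image of `Γ`
  let π : R →* S := eS.toMonoidHom.comp (QuotientGroup.mk' (Subgroup.center R))
  have hπs : Function.Surjective π := eS.surjective.comp (QuotientGroup.mk'_surjective _)
  have hπk : ∀ s, π s = 1 ↔ s ∈ Subgroup.center R := by
    intro s
    show eS (QuotientGroup.mk s) = 1 ↔ _
    rw [EmbeddingLike.map_eq_one_iff, QuotientGroup.eq_one_iff]
  have hπker : π.ker = Subgroup.center R := by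
    ext s
    rw [MonoidHom.mem_ker, hπk]
  have d1 : Nat.card Γ ∣ Nat.card ((Γ.subgroupOf R).map π) * 16 := by
    have e1 : Nat.card (Γ ⊓ R : Subgroup G) * R.relIndex Γ = Nat.card Γ := by
      have h3 := Subgroup.card_mul_index (R.subgroupOf Γ)
      have h4 : Nat.card (R.subgroupOf Γ) = Nat.card (Γ ⊓ R : Subgroup G) := by
        rw [← Subgroup.inf_subgroupOf_left]
        exact Nat.card_congr (Subgroup.subgroupOfEquivOfLe inf_le_left).toEquiv
      rw [h4] at h3
      exact h3
    have e2 : R.relIndex Γ ∣ R.index := Subgroup.relIndex_dvd_index_of_normal R Γ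
    have e3 : R.index ∣ 4 := ⟨_, c2.symm⟩
    have e4 : Nat.card (Subgroup.center R) ∣ 4 := ⟨_, by rw [mul_comm]; exact c2.symm⟩
    have e5 : Nat.card (Γ ⊓ R : Subgroup G) = Nat.card (Γ.subgroupOf R) := by
      rw [← Subgroup.inf_subgroupOf_right]
      exact (Nat.card_congr (Subgroup.subgroupOfEquivOfLe inf_le_right).toEquiv).symm
    have e6 : Nat.card (Γ.subgroupOf R) ∣ Nat.card ((Γ.subgroupOf R).map π) * Nat.card (Subgroup.center R) := by
      have h3 := (π.comp (Γ.subgroupOf R).subtype).ker.index_mul_card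
      rw [Subgroup.index_ker, MonoidHom.range_comp, Subgroup.range_subtype] at h3
      rw [← h3]
      apply Nat.mul_dvd_mul_left
      have h4 : ((π.comp (Γ.subgroupOf R).subtype).ker).map (Γ.subgroupOf R).subtype ≤ Subgroup.center R := by
        rintro _ ⟨s, hs, rfl⟩
        exact (hπk _).1 hs
      have h5 := Subgroup.card_dvd_of_le h4
      rwa [Nat.card_congr (Subgroup.equivMapOfInjective _ _ (Subgroup.subtype_injective _)).toEquiv.symm] at h5
    calc Nat.card Γ = Nat.card (Γ.subgroupOf R) * R.relIndex Γ := by rw [← e5, e1]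
      _ ∣ (Nat.card ((Γ.subgroupOf R).map π) * 4) * 4 :=
        Nat.mul_dvd_mul (e6.trans (Nat.mul_dvd_mul_left _ e4)) (e2.trans e3)
      _ = _ := by ring
  have cop : ∀ s : ℕ, s.Prime → s ≠ 2 → ∀ k, Nat.Coprime (s ^ k) 16 := by
    intro s hs hs2 k
    have : (16 : ℕ) = 2 ^ 4 := by norm_num
    rw [this]
    exact Nat.Coprime.pow _ _ ((Nat.coprime_primes hs Nat.prime_two).2 hs2)
  have hH : (Γ.subgroupOf R).map π = ⊤ := by
    apply hS
    · exact (cop p hp hp2 m).dvd_of_dvd_mul_right (h1.trans d1)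
    · have := cop r hr hr2 1
      rw [pow_one] at this
      exact this.dvd_of_dvd_mul_right (h2.trans d1)
  -- `[R, R] ≤ Γ`
  have hdec : ∀ s : R, ∃ g : R, (g : G) ∈ Γ ∧ ∃ z ∈ Subgroup.center R, s = g * z := by
    intro s
    have h3 : π s ∈ (Γ.subgroupOf R).map π := by rw [hH]; trivial
    obtain ⟨g, hg, hgs⟩ := h3
    refine ⟨g, hg, g⁻¹ * s, ?_, by group⟩
    rw [← hπk, map_mul, map_inv, hgs, inv_mul_cancel]
  have hcomm : ∀ s t : R, ((⁅s, t⁆ : R) : G) ∈ Γ := by
    intro s t
    obtain ⟨g, hg, z, hz, rfl⟩ := hdec s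
    obtain ⟨g', hg', z', hz', rfl⟩ := hdec t
    have c1 : ∀ y, z * y = y * z := fun y => (Subgroup.mem_center_iff.1 hz y).symm
    have c2 : ∀ y, z' * y = y * z' := fun y => (Subgroup.mem_center_iff.1 hz' y).symm
    have h3 : ⁅g * z, g' * z'⁆ = ⁅g, g'⁆ := by
      rw [commutatorElement_def, commutatorElement_def]
      calc g * z * (g' * z') * (g * z)⁻¹ * (g' * z')⁻¹
          = g * (z * (g' * z' * z⁻¹)) * g⁻¹ * z'⁻¹ * g'⁻¹ := by group
        _ = g * ((g' * z' * z⁻¹) * z) * g⁻¹ * z'⁻¹ * g'⁻¹ := by rw [c1]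
        _ = g * g' * (z' * g⁻¹) * z'⁻¹ * g'⁻¹ := by group
        _ = g * g' * (g⁻¹ * z') * z'⁻¹ * g'⁻¹ := by rw [c2]
        _ = g * g' * g⁻¹ * g'⁻¹ := by group
    rw [h3, commutatorElement_def]
    exact Γ.mul_mem (Γ.mul_mem (Γ.mul_mem hg hg') (Γ.inv_mem hg)) (Γ.inv_mem hg')
  have hD : (commutator R).map R.subtype ≤ Γ := by
    rw [Subgroup.map_le_iff_le_comap, commutator_def, Subgroup.commutator_le]
    intro s _ t _
    exact hcomm s t
  have hDn : ((commutator R).map R.subtype).Normal := by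
    have h3 : (commutator R).map R.subtype = ⁅R, R⁆ := by
      rw [commutator_def, Subgroup.map_commutator, ← MonoidHom.range_eq_map, Subgroup.range_subtype]
    rw [h3]
    infer_instance
  -- the index
  have i1 : Nat.card S ∣ Nat.card ((commutator R).map R.subtype) := by
    rw [Nat.card_congr (Subgroup.equivMapOfInjective _ _ (Subgroup.subtype_injective _)).toEquiv.symm]
    have h3 : (commutator R).map π = ⊤ := by
      rw [commutator_def, Subgroup.map_commutator, ← MonoidHom.range_eq_map, MonoidHom.range_eq_top.2 hπs,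
        ← commutator_def, hperf]
    have h4 := Subgroup.card_map_dvd (H := commutator R) π
    rwa [h3, Subgroup.card_top] at h4
  have i2 : ((commutator R).map R.subtype).index ∣ 4 := by
    have h3 := ((commutator R).map R.subtype).index_mul_card
    obtain ⟨k, hk⟩ := i1
    rw [hk, hcard] at h3
    have h4 : ((commutator R).map R.subtype).index * k = 4 := by
      apply Nat.eq_of_mul_eq_mul_right hSpos
      rw [← h3]
      ring
    exact ⟨k, h4.symm⟩
  apply hD
  rw [← QuotientGroup.eq_one_iff]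
  have j1 : (QuotientGroup.mk x : G ⧸ (commutator R).map R.subtype) ^ p = 1 := by
    rw [← QuotientGroup.mk_pow, hx]
    rfl
  have j2 : (QuotientGroup.mk x : G ⧸ (commutator R).map R.subtype) ^ 4 = 1 := by
    have h3 : orderOf (QuotientGroup.mk x : G ⧸ (commutator R).map R.subtype) ∣ 4 :=
      (orderOf_dvd_natCard _).trans i2
    exact orderOf_dvd_iff_pow_eq_one.1 h3
  have j3 : Nat.Coprime p 4 := by
    have : (4 : ℕ) = 2 ^ 2 := by norm_num
    rw [this]
    exact Nat.Coprime.pow_right _ ((Nat.coprime_primes hp Nat.prime_two).2 hp2)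
  have j4 := Nat.dvd_gcd (orderOf_dvd_of_pow_eq_one j1) (orderOf_dvd_of_pow_eq_one j2)
  rw [j3] at j4
  exact orderOf_eq_one_iff.1 (Nat.dvd_one.1 j4)

end abs

/-! ### subgroups of `PSL_2(q²)` -/

section dickson

open Cfsg.Agent.ClassicalGeometry

/-- `PSL_2(K)`, `|K| = p ^ (2 f)`: large subgroups -/
theorem top_of_large {K : Type} [Field K] [Fintype K] {p f r : ℕ} (hp : p.Prime) (hp2 : p ≠ 2) (hf : 1 ≤ f)
    (hK : Fintype.card K = p ^ (2 * f)) (h31 : 31 ≤ p ^ f) (hr : r.Prime) (hr1 : ¬ r ∣ p) (hr2 : ¬ r ∣ p ^ (2 * f) - 1)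
    (H : Subgroup (Matrix.ProjectiveSpecialLinearGroup (Fin 2) K)) (h1 : p ^ (f + 1) ∣ Nat.card H)
    (h2 : r ∣ Nat.card H) : H = ⊤ := by
  have := Fact.mk hp
  have hchar : CharP K p := by
    obtain ⟨c, hc⟩ := CharP.exists K
    have hcp : c.Prime := CharP.char_is_prime K c
    have hc2 := Fact.mk hcp
    obtain ⟨n, -, hn⟩ := FiniteField.card K c
    have h3 : c ∣ p ^ (2 * f) := by
      rw [← hK, hn]
      exact dvd_pow_self c n.ne_zero
    have h4 := hcp.dvd_of_dvd_pow h3
    rw [(Nat.prime_dvd_prime_iff_eq hcp hp).1 h4] at hc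
    exact hc
  have hodd : Odd p := hp.odd_of_ne_two hp2
  set s := p ^ (2 * f) with hs
  have hsodd : Odd s := hodd.pow
  have hs1 : 1 < s := Nat.one_lt_pow (by omega) hp.one_lt
  have hpf : p ∣ p ^ (f + 1) := dvd_pow_self p (by omega)
  have hp3 : 3 ≤ p := by have := hp.two_le; omega
  have hbig : 93 ≤ p ^ (f + 1) := by
    rw [pow_succ]
    have := Nat.mul_le_mul h31 hp3
    omega
  have hgcd : Nat.gcd 2 (s - 1) = 2 := by
    apply Nat.gcd_eq_left
    obtain ⟨k, hk⟩ := hsodd
    exact ⟨k, by omega⟩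
  rcases S0799.result hK p H with h | h | ⟨⟨e⟩⟩ | ⟨⟨e⟩⟩ | ⟨⟨e⟩⟩ | h
  · -- cyclic or dihedral
    exfalso
    obtain ⟨k, hk, h⟩ := h
    have hc : Nat.card H ∣ 2 * k := by
      rcases h with ⟨_, h⟩ | ⟨⟨e⟩⟩
      · rw [h]; exact Dvd.intro_left _ rfl
      · rw [Nat.card_congr e.toEquiv, DihedralGroup.nat_card]
    have h3 : p ∣ 2 * k := hpf.trans (h1.trans hc)
    have h4 : p ∣ k := ((Nat.coprime_primes hp Nat.prime_two).2 hp2).dvd_of_dvd_mul_left h3
    rw [hgcd] at hk
    have h5 : p ∣ s := dvd_pow_self p (by omega)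
    rcases hk with hk | hk
    · have h6 : p ∣ s + 1 := (h4.trans hk).trans (Nat.div_dvd_of_dvd (by obtain ⟨j, hj⟩ := hsodd; exact ⟨j + 1, by omega⟩))
      have h7 := (Nat.dvd_add_right h5).1 h6
      exact hp.one_lt.ne' (Nat.dvd_one.1 h7)
    · have h6 : p ∣ s - 1 := (h4.trans hk).trans (Nat.div_dvd_of_dvd (by obtain ⟨j, hj⟩ := hsodd; exact ⟨j, by omega⟩))
      have h7 := Nat.dvd_sub h5 h6
      rw [show s - (s - 1) = 1 by omega] at h7
      exact hp.one_lt.ne' (Nat.dvd_one.1 h7)
  · -- Borel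
    exfalso
    obtain ⟨P, L, hL, ⟨e⟩⟩ := h
    have hN := H436.TT.index_normalizer p P
    set N := Subgroup.normalizer ((P : Subgroup (Matrix.ProjectiveSpecialLinearGroup (Fin 2) K)) :
      Set (Matrix.ProjectiveSpecialLinearGroup (Fin 2) K)) with hNdef
    have hb : Nat.card N * Nat.gcd 2 (s - 1) = s * (s - 1) := by
      have h2 : Nat.card N * (s + 1) * Nat.gcd 2 (s - 1) = s * (s ^ 2 - 1) := by
        rw [← hK, ← hN, Subgroup.card_mul_index]
        exact PSL2Basic.card_PSL2_gcd _
      have h3 : s ^ 2 - 1 = (s - 1) * (s + 1) := by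
        have := Nat.sq_sub_sq s 1
        rw [one_pow] at this
        rw [this]; ring
      rw [h3] at h2
      refine Nat.eq_of_mul_eq_mul_right (show 0 < s + 1 by omega) ?_
      calc _ = Nat.card N * (s + 1) * Nat.gcd 2 (s - 1) := by ring
        _ = _ := by rw [h2]; ring
    have h3 : r ∣ s * (s - 1) := by
      rw [← hb]
      apply Dvd.dvd.mul_right
      rw [Nat.card_congr e.toEquiv] at h2
      exact h2.trans (Subgroup.card_dvd_of_le hL)
    rcases hr.dvd_mul.1 h3 with h3 | h3
    · exact hr1 (hr.dvd_of_dvd_pow h3)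
    · exact hr2 h3
  · exfalso
    rw [Nat.card_congr e.toEquiv] at h1
    have h3 := Nat.le_of_dvd Nat.card_pos h1
    have h4 : Nat.card (alternatingGroup (Fin 4)) = 12 := by
      rw [Nat.card_eq_fintype_card]
      decide +kernel
    omega
  · exfalso
    rw [Nat.card_congr e.toEquiv] at h1
    have h3 := Nat.le_of_dvd Nat.card_pos h1
    have h4 : Nat.card (Equiv.Perm (Fin 4)) = 24 := by
      rw [Nat.card_eq_fintype_card, Fintype.card_perm, Fintype.card_fin]
      rfl
    omega
  · exfalso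
    rw [Nat.card_congr e.toEquiv] at h1
    have h3 := Nat.le_of_dvd Nat.card_pos h1
    rw [H648.DG.Psl2.card_alt5] at h3
    omega
  · -- subfields
    obtain ⟨E, _, _, m, hm, h⟩ := h
    obtain ⟨a, ha⟩ : ∃ a, Fintype.card E = p ^ a := by
      have h3 : Fintype.card E ∣ p ^ (2 * f) := by
        rw [← hs, ← hm]
        apply dvd_pow_self
        rintro rfl
        rw [pow_zero] at hm
        omega
      obtain ⟨a, -, ha⟩ := (Nat.dvd_prime_pow hp).1 h3
      exact ⟨a, ha⟩
    have hE1 : 1 < Fintype.card E := Fintype.one_lt_card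
    have ha0 : a ≠ 0 := by
      rintro rfl
      rw [pow_zero] at ha
      omega
    have ham : a * m = 2 * f := by
      rw [ha, ← pow_mul, hs] at hm
      exact Nat.pow_right_injective hp.two_le hm
    by_cases hm1 : m = 1
    · subst hm1
      rw [pow_one] at hm
      rw [mul_one] at ham
      have hcard : Nat.card (Matrix.ProjectiveSpecialLinearGroup (Fin 2) K) ≤ Nat.card H := by
        have c1 := PSL2Basic.card_PSL2_gcd K
        rcases h with ⟨⟨e⟩⟩ | ⟨⟨e⟩⟩
        · rw [Nat.card_congr e.toEquiv]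
          have c2 := PSL2Basic.card_PSL2_gcd E
          rw [hm, hgcd] at c2
          rw [hK, hgcd] at c1
          omega
        · rw [Nat.card_congr e.toEquiv, PSL2Basic.card_PGL2, hm]
          rw [hK, hgcd] at c1
          omega
      exact Subgroup.eq_top_of_le_card H hcard
    · exfalso
      have haf : a ≤ f := by
        by_contra hlt
        push Not at hlt
        have hm0 : m ≠ 0 := by
          rintro rfl
          omega
        have h3 : 2 ≤ m := by omega
        have h4 : (f + 1) * 2 ≤ a * m := Nat.mul_le_mul hlt h3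
        omega
      have h3 := H648.DG.Psl2.card_dvd_of_iso h
      have h4 : p ^ (f + 1) ∣ Fintype.card E * (Fintype.card E ^ 2 - 1) := h1.trans h3
      have h5 : Nat.Coprime (p ^ (f + 1)) (Fintype.card E ^ 2 - 1) := by
        apply Nat.Coprime.pow_left
        rw [Nat.Prime.coprime_iff_not_dvd hp]
        intro h6
        have h7 : p ∣ Fintype.card E ^ 2 := by
          rw [ha]
          exact dvd_pow (dvd_pow_self p ha0) two_ne_zero
        have h8 := Nat.dvd_sub h7 h6
        have h9 : 0 < Fintype.card E ^ 2 := by positivity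
        rw [show Fintype.card E ^ 2 - (Fintype.card E ^ 2 - 1) = 1 by omega] at h8
        exact hp.one_lt.ne' (Nat.dvd_one.1 h8)
      have h6 := h5.dvd_of_dvd_mul_right h4
      rw [ha, Nat.pow_dvd_pow_iff_le_right hp.one_lt] at h6
      omega

theorem psl_perfect {K : Type} [Field K] [Fintype K] (h4 : 4 ≤ Fintype.card K) :
    commutator (Matrix.ProjectiveSpecialLinearGroup (Fin 2) K) = ⊤ := by
  classical
  obtain ⟨a, ha⟩ : ∃ a : K, a ∉ ({0, 1, -1} : Finset K) := by
    by_contra hcon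
    push Not at hcon
    have h1 : (Finset.univ : Finset K) ⊆ {0, 1, -1} := fun x _ => hcon x
    have h2 := Finset.card_le_card h1
    have h3 := Finset.card_le_three (a := (0 : K)) (b := 1) (c := -1)
    rw [Finset.card_univ] at h2
    omega
  simp only [Finset.mem_insert, Finset.mem_singleton, not_or] at ha
  have h1 : commutator SL(2, K) = ⊤ := by
    refine Matrix.SL2.commutator_eq_top ha.1 ?_
    intro h
    have h2 : (a - 1) * (a + 1) = 0 := by linear_combination h
    rcases mul_eq_zero.1 h2 with h | h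
    · exact ha.2.1 (sub_eq_zero.1 h)
    · exact ha.2.2 (eq_neg_of_add_eq_zero_left h)
  have h2 := Subgroup.map_commutator (⊤ : Subgroup SL(2, K)) ⊤ (QuotientGroup.mk' (Subgroup.center SL(2, K)))
  rw [← commutator_def, h1, ← MonoidHom.range_eq_map,
    MonoidHom.range_eq_top.2 (QuotientGroup.mk'_surjective _)] at h2
  exact h2.symm

end dickson

/-! ### the box -/

section final

/-- isometric spaces have isomorphic isometry groups -/
def oEquiv {F V V' : Type*} [Field F] [AddCommGroup V] [Module F V] [AddCommGroup V'] [Module F V']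
    {Q : QuadraticForm F V} {Q' : QuadraticForm F V'} (e : V ≃ₗ[F] V') (he : ∀ v, Q' (e v) = Q v) :
    ↥(O Q) ≃* ↥(O Q') where
  toFun g := ⟨e.symm.trans (g.1.trans e), fun v => by
    show Q' (e (g.1 (e.symm v))) = Q' v
    rw [he, g.2, ← he, LinearEquiv.apply_symm_apply]⟩
  invFun g := ⟨e.trans (g.1.trans e.symm), fun v => by
    show Q (e.symm (g.1 (e v))) = Q v
    rw [← he, LinearEquiv.apply_symm_apply, g.2, he]⟩
  left_inv g := by
    apply Subtype.ext
    apply LinearEquiv.ext
    intro v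
    show e.symm (e (g.1 (e.symm (e v)))) = g.1 v
    rw [LinearEquiv.symm_apply_apply, LinearEquiv.symm_apply_apply]
  right_inv g := by
    apply Subtype.ext
    apply LinearEquiv.ext
    intro v
    show e (e.symm (g.1 (e (e.symm v)))) = g.1 v
    rw [LinearEquiv.apply_symm_apply, LinearEquiv.apply_symm_apply]
  map_mul' g h := by
    apply Subtype.ext
    apply LinearEquiv.ext
    intro v
    show e (g.1 (h.1 (e.symm v))) = e (g.1 (e.symm (e (h.1 (e.symm v)))))
    rw [LinearEquiv.symm_apply_apply]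

theorem siegel_pow {F V : Type*} [Field F] [AddCommGroup V] [Module F V] {Q : QuadraticForm F V} {u w : V}
    (hu : Q u = 0) (hw : polar Q u w = 0) {p : ℕ} [CharP F p] : siegel Q u w hu hw ^ p = 1 := by
  have key : ∀ n : ℕ, ∀ v, (siegel Q u w hu hw ^ n) v = siegelLin Q u ((n : F) • w) v := by
    intro n
    induction n with
    | zero =>
      intro v
      rw [siegelLin_apply, Nat.cast_zero, zero_smul, map_zero]
      simp [polar]
    | succ n ih =>
      intro v
      rw [pow_succ']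
      show siegelLin Q u w ((siegel Q u w hu hw ^ n) v) = _
      rw [ih, siegelLin_comp hu hw (by rw [polar_smul_right, hw, smul_zero])]
      congr 2
      push_cast
      module
  apply LinearEquiv.ext
  intro v
  rw [key, CharP.cast_eq_zero, zero_smul, siegelLin_apply, map_zero]
  simp [polar]

/-- **box B4** -/
theorem dim_four_minus {F : Type} [Field F] [Fintype F] {V : Type} [AddCommGroup V] [Module F V]
    [FiniteDimensional F V] {Q : QuadraticForm F V} {p f : ℕ} {Γ : Subgroup (V ≃ₗ[F] V)} (hQ : Nondeg Q)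
    (h4 : finrank F V = 4) (hpl : ¬ IsPlus Q) (hp : p.Prime) (hp2 : p ≠ 2) (hf : 1 ≤ f)
    (hF : Nat.card F = p ^ f) (h31 : 31 ≤ p ^ f) (hΓ : Γ ≤ O Q) {r : ℕ} (hr : PP p (f * 4) r)
    (hd : r ∣ Nat.card Γ) (hv : f < (Nat.card Γ).factorization p) : E Q ≤ Γ := by
  classical
  have hpF := Fact.mk hp
  obtain ⟨a, b, hab⟩ := exists_aniso_coeff F
  obtain ⟨e, he⟩ := exists_minus_equiv hab 1 Q hQ h4 hpl
  -- the isomorphism of groups
  let θ : ↥(O Q) ≃* ↥(Cfsg.isometryGroup F (Cfsg.quadFormMinus 1 F a b)) :=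
    ((oEquiv e he).trans (isometryEquiv _).symm).trans
      (MulEquiv.subgroupCongr (by rw [LieClassical.QuadForms.coe_minusForm]))
  have hcF : Fintype.card F = p ^ f := by rw [← Nat.card_eq_fintype_card, hF]
  -- the field with `q ^ 2` elements
  let K := GaloisField p (2 * f)
  have hKf : Fintype K := Fintype.ofFinite K
  have hK : Fintype.card K = (p ^ f) ^ 2 := by
    rw [← Nat.card_eq_fintype_card, GaloisField.card p (2 * f) (by omega), ← pow_mul, mul_comm]
  have hK' : Fintype.card K = p ^ (2 * f) := by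
    rw [hK, ← pow_mul, mul_comm]
  obtain ⟨eS⟩ := S0300.result (K := K) hcF hK a b hab
  have hcG := S0288.result (F := F) hcF 2 (by norm_num) a b hab
  have hc1 : Nat.card (Cfsg.isometryGroup F (Cfsg.quadFormMinus 1 F a b)) =
      4 * Nat.card (Matrix.ProjectiveSpecialLinearGroup (Fin 2) K) := by
    have c1 := ClassicalGeometry.PSL2Basic.card_PSL2_gcd K
    have hodd : Odd (p ^ f) := (hp.odd_of_ne_two hp2).pow
    have hgcd : Nat.gcd 2 ((p ^ f) ^ 2 - 1) = 2 := by
      apply Nat.gcd_eq_left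
      obtain ⟨k, hk⟩ := hodd.pow (n := 2)
      exact ⟨k, by omega⟩
    rw [hK, hgcd] at c1
    have c2 : Nat.card (Cfsg.isometryGroup F (Cfsg.quadFormMinus 1 F a b)) =
        2 * (p ^ f) ^ 2 * ((p ^ f) ^ 2 + 1) * ((p ^ f) ^ 2 - 1) := by
      have h4 : Nat.card (Cfsg.isometryGroup F (Cfsg.quadFormMinus 1 F a b)) = _ := hcG
      rw [h4, show (2 : ℕ) - 1 = 1 from rfl, Finset.prod_range_one, mul_one, zero_add, mul_one]
    have c3 : ((p ^ f) ^ 2) ^ 2 - 1 = ((p ^ f) ^ 2 + 1) * ((p ^ f) ^ 2 - 1) := by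
      have := Nat.sq_sub_sq ((p ^ f) ^ 2) 1
      rwa [one_pow] at this
    rw [c3] at c1
    rw [c2]
    calc _ = 2 * ((p ^ f) ^ 2 * (((p ^ f) ^ 2 + 1) * ((p ^ f) ^ 2 - 1))) := by ring
      _ = _ := by rw [← c1]; ring
  -- finiteness
  have hfG : Finite (Cfsg.isometryGroup F (Cfsg.quadFormMinus 1 F a b)) := inferInstance
  have hfO : Finite ↥(O Q) := Finite.of_equiv _ θ.symm.toEquiv
  -- the group
  let Γ₁ : Subgroup ↥(Cfsg.isometryGroup F (Cfsg.quadFormMinus 1 F a b)) := (Γ.subgroupOf (O Q)).map θ.toMonoidHom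
  have hcΓ : Nat.card Γ₁ = Nat.card Γ := by
    rw [Nat.card_congr (Subgroup.equivMapOfInjective _ _ θ.injective).toEquiv.symm]
    exact Nat.card_congr (Subgroup.subgroupOfEquivOfLe hΓ).toEquiv
  have hrf : f * 4 < r := hr.lt (by omega)
  have hcharF : CharP F p := by
    obtain ⟨c, hc⟩ := CharP.exists F
    have hcp : c.Prime := CharP.char_is_prime F c
    have hc2 := Fact.mk hcp
    obtain ⟨n, -, hn⟩ := FiniteField.card F c
    have h3 : c ∣ p ^ f := by
      rw [← hcF, hn]
      exact dvd_pow_self c n.ne_zero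
    have h4 := hcp.dvd_of_dvd_pow h3
    rw [(Nat.prime_dvd_prime_iff_eq hcp hp).1 h4] at hc
    exact hc
  have hK4 : 4 ≤ Fintype.card K := by
    rw [hK]
    have := Nat.mul_le_mul h31 h31
    rw [pow_two]
    omega
  have hΓ0 : Nat.card Γ ≠ 0 := by
    rw [← hcΓ]
    exact Nat.card_pos.ne'
  have hmain : ∀ x : ↥(Cfsg.isometryGroup F (Cfsg.quadFormMinus 1 F a b)), x ^ p = 1 → x ∈ Γ₁ := by
    intro x hx
    refine mem_of_large (R := Cfsg.Omega F (Cfsg.quadFormMinus 1 F a b)) (m := f + 1) eS hc1 (psl_perfect hK4)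
      hp hp2 hr.prime (by omega) ?_ ?_ ?_ hx
    · intro H h1 h2
      refine top_of_large hp hp2 hf hK' h31 hr.prime (hr.not_dvd (by omega)) ?_ H h1 h2
      rw [hr.dvd_iff hp.one_lt.le]
      intro h3
      have := Nat.le_of_dvd (by omega) h3
      omega
    · rw [hcΓ]
      exact (Nat.Prime.pow_dvd_iff_le_factorization hp hΓ0).2 hv
    · rw [hcΓ]
      exact hd
  rw [LieClassical.OrthCore.E, Subgroup.closure_le]
  rintro _ ⟨u, w, hu, hw, rfl⟩
  have h1 : siegel Q u w hu hw ∈ O Q := siegel_mem_O hu hw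
  have h2 := hmain (θ ⟨_, h1⟩) (by
    rw [← map_pow]
    have h3 : (⟨siegel Q u w hu hw, h1⟩ : ↥(O Q)) ^ p = 1 := Subtype.ext (siegel_pow hu hw)
    rw [h3, map_one])
  obtain ⟨g, hg, hgs⟩ := h2
  have h3 := θ.injective hgs
  rw [h3] at hg
  exact hg

end final

end Cfsg.Agent.H179.Om
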